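import Groth.Agent.L21.Conic.Fibration
import Groth.Agent.L19.BiratStalk
import Groth.Agent.L11.SBStable.Generic
import Groth.Agent.L21.RR.GenusZeroPoint
import Groth.Agent.S11575
import Groth.Agent.L21.ConnFam.DimOne

/-!
Schemes over an integral base with isomorphic generic fibres are birational over the base.
-/

set_option autoImplicit false
set_option backward.isDefEq.respectTransparency false
set_option linter.style.haveILetI false
universe u

open CategoryTheory CategoryTheory.Limits AlgebraicGeometry TopologicalSpace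

noncomputable section

namespace Groth.L21.Conic

variable {A A' B : Scheme.{u}} [IsIntegral B] (π : A ⟶ B) (π' : A' ⟶ B)

theorem flat_fromSpecResidueField : Flat (B.fromSpecResidueField (genericPoint B)) := by
  letI : Field (B.presheaf.stalk (genericPoint B)) := inferInstanceAs (Field B.functionField)
  haveI : IsIso (B.residue (genericPoint B)) := by
    rw [ConcreteCategory.isIso_iff_bijective]
    exact ⟨RingHom.injective _, B.residue_surjective _⟩
  haveI := Groth.L05.Point.flat_fromSpecStalk (X := B) (genericPoint B)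
  exact (inferInstance : Flat (Spec.map (B.residue (genericPoint B)) ≫ B.fromSpecStalk (genericPoint B)))

theorem isIso_stalkMap_fiberι (z : π.fiber (genericPoint B)) :
    IsIso ((π.fiberι (genericPoint B)).stalkMap z) := by
  haveI : Flat (π.fiberι (genericPoint B)) :=
    MorphismProperty.pullback_fst π _ flat_fromSpecResidueField
  haveI : IsPreimmersion (π.fiberι (genericPoint B)) := MorphismProperty.pullback_fst π _ inferInstance
  rw [ConcreteCategory.isIso_iff_bijective]
  refine ⟨?_, (π.fiberι (genericPoint B)).stalkMap_surjective z⟩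
  have hf : ((π.fiberι (genericPoint B)).stalkMap z).hom.Flat := (Flat.iff_flat_stalkMap _).mp inferInstance z
  algebraize [((π.fiberι (genericPoint B)).stalkMap z).hom]
  haveI : IsLocalHom (algebraMap (A.presheaf.stalk (π.fiberι (genericPoint B) z))
      ((π.fiber (genericPoint B)).presheaf.stalk z)) :=
    inferInstanceAs (IsLocalHom ((π.fiberι (genericPoint B)).stalkMap z).hom)
  haveI : Module.Flat (A.presheaf.stalk (π.fiberι (genericPoint B) z))
      ((π.fiber (genericPoint B)).presheaf.stalk z) := hf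
  haveI : Module.FaithfullyFlat (A.presheaf.stalk (π.fiberι (genericPoint B) z))
      ((π.fiber (genericPoint B)).presheaf.stalk z) := Module.FaithfullyFlat.of_flat_of_isLocalHom
  exact FaithfulSMul.algebraMap_injective (A.presheaf.stalk (π.fiberι (genericPoint B) z))
    ((π.fiber (genericPoint B)).presheaf.stalk z)

theorem exists_iso_opens [LocallyOfFiniteType π] [LocallyOfFiniteType π'] [IsLocallyNoetherian A]
    [IsLocallyNoetherian A'] (φ : π.fiber (genericPoint B) ≅ π'.fiber (genericPoint B))
    (hφ : φ.hom ≫ π'.fiberToSpecResidueField (genericPoint B) = π.fiberToSpecResidueField (genericPoint B))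
    (z : π.fiber (genericPoint B)) :
    ∃ (U : A.Opens) (W : A'.Opens) (e : (U : Scheme.{u}) ≅ (W : Scheme.{u})),
      π.fiberι (genericPoint B) z ∈ U ∧ e.hom ≫ W.ι ≫ π' = U.ι ≫ π := by
  let η := genericPoint B
  let ξ := π.fiberι η z
  let ζ := π'.fiberι η (φ.hom z)
  haveI := isIso_stalkMap_fiberι π z
  haveI := isIso_stalkMap_fiberι π' (φ.hom z)
  let e : A.presheaf.stalk ξ ≅ A'.presheaf.stalk ζ :=
    asIso ((π.fiberι η).stalkMap z) ≪≫ (asIso (φ.hom.stalkMap z)).symm ≪≫
      (asIso ((π'.fiberι η).stalkMap (φ.hom z))).symm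
  have he : Spec.map e.inv ≫ A'.fromSpecStalk ζ =
      Spec.map (inv ((π.fiberι η).stalkMap z)) ≫ (π.fiber η).fromSpecStalk z ≫ φ.hom ≫ π'.fiberι η := by
    simp only [e, ζ, η, Iso.trans_inv, Iso.symm_inv, asIso_hom, asIso_inv, Spec.map_comp, Category.assoc,
      Scheme.SpecMap_stalkMap_fromSpecStalk]
    rw [← Scheme.SpecMap_stalkMap_fromSpecStalk_assoc (f := φ.hom)]
  have hZ : Spec.map (inv ((π.fiberι η).stalkMap z)) ≫ (π.fiber η).fromSpecStalk z ≫ π.fiberι η =
      A.fromSpecStalk ξ := by
    rw [← Scheme.SpecMap_stalkMap_fromSpecStalk, ← Spec.map_comp_assoc, IsIso.hom_inv_id,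
      Spec.map_id, Category.id_comp]
  have hX : (Spec.map e.inv ≫ A'.fromSpecStalk ζ) ≫ π' = A.fromSpecStalk ξ ≫ π := by
    rw [he, ← hZ]
    simp only [Category.assoc, η, Scheme.Hom.fiber_fac, reassoc_of% hφ]
  have hY : (Spec.map e.hom ≫ A.fromSpecStalk ξ) ≫ π = A'.fromSpecStalk ζ ≫ π' := by
    rw [Category.assoc, ← hX, Category.assoc, ← Spec.map_comp_assoc, Iso.inv_hom_id, Spec.map_id,
      Category.id_comp]
  obtain ⟨U, hx, f, hf, hfS⟩ := spread_out_of_isGermInjective' π π' _ hX
  obtain ⟨V, hy, h, hh, hhS⟩ := spread_out_of_isGermInjective' π' π _ hY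
  obtain ⟨U₁, V₁, i, hxU₁, -, hi⟩ :=
    Groth.L19.BiratStalk.exists_iso_nhds _ _ e hx f hf.symm hfS hy h hh.symm hhS
  exact ⟨U₁, V₁, i, hxU₁, hi⟩

/-- The generic fibre of `B × Pⁿ`. -/
theorem exists_iso_fibre_projSpace {k : Type u} [Field k] [B.Over (Spec (CommRingCat.of k))] (n : ℕ) (b : B) :
    ∃ φ : (pullback.fst (B ↘ Spec (CommRingCat.of k)) (CohB1.ProjSpace.toSpec n k)).fiber b ≅
        CohB1.ProjSpace n (B.residueField b),
      φ.hom ≫ CohB1.ProjSpace.toSpec n (B.residueField b) =
        (pullback.fst (B ↘ Spec (CommRingCat.of k)) (CohB1.ProjSpace.toSpec n k)).fiberToSpecResidueField b := by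
  let q := pullback.fst (B ↘ Spec (CommRingCat.of k)) (CohB1.ProjSpace.toSpec n k)
  have h1 := (IsPullback.of_hasPullback q (B.fromSpecResidueField b)).flip
  have h2 := IsPullback.of_hasPullback (B ↘ Spec (CommRingCat.of k)) (CohB1.ProjSpace.toSpec n k)
  have hm := (Groth.L16.ProjSpace.isPullback_map n (Curv2.resMap k B b)).flip
  rw [Groth.L22.FibreDim.SpecMap_resMap] at hm
  have h := h1.paste_vert h2
  exact ⟨h.isoIsPullback _ _ hm, h.isoIsPullback_hom_fst _ _ hm⟩

end Groth.L21.Conic
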