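import Groth.Agent.L21.Conic.Fibre
import Groth.Agent.L21.CurveDesc.Fam
import Groth.Agent.L05.Point.FibreGlobal
import Groth.Agent.L20.FibreScheme
import Groth.Agent.L21.CurveTop

/-!
# A quotient of a family of curves by an involution is a double cover
-/

set_option autoImplicit false
set_option linter.style.haveILetI false
set_option linter.unusedSectionVars false
set_option backward.isDefEq.respectTransparency false
set_option backward.isDefEq.respectTransparency.types false
set_option maxHeartbeats 800000
set_option synthInstance.maxHeartbeats 400000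

universe u

open CategoryTheory CategoryTheory.Limits AlgebraicGeometry

noncomputable section

namespace Groth.L21.Conic

open Groth.L21.CurveDesc (CurveFam)

section Act

variable {X P S' : Scheme.{u}} {π : X ⟶ P} {ι : S' ⟶ P} {G : Type u} [Group G] (ρ : G →* Aut X)
  (hinv : ∀ g, (ρ g).hom ≫ π = π)

/-- The action on a base change of an invariant morphism, as endomorphisms. -/
def pullEnd (g : G) : pullback π ι ⟶ pullback π ι :=
  pullback.lift (pullback.fst π ι ≫ (ρ g).hom) (pullback.snd π ι) (by rw [Category.assoc, hinv, pullback.condition])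

theorem pullEnd_mul (a b : G) : pullEnd ρ hinv (ι := ι) (a * b) = pullEnd ρ hinv b ≫ pullEnd ρ hinv a := by
  refine pullback.hom_ext ?_ ?_
  · simp [pullEnd, map_mul, Aut.Aut_mul_def]
  · simp [pullEnd]

theorem pullEnd_one : pullEnd ρ hinv (ι := ι) 1 = 𝟙 _ := by
  refine pullback.hom_ext ?_ ?_ <;> simp [pullEnd, map_one]
  rfl

/-- The action on a base change of an invariant morphism. -/
def pullAut : G →* Aut (pullback π ι) where
  toFun g := ⟨pullEnd ρ hinv g, pullEnd ρ hinv g⁻¹, by rw [← pullEnd_mul, inv_mul_cancel, pullEnd_one],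
    by rw [← pullEnd_mul, mul_inv_cancel, pullEnd_one]⟩
  map_one' := Iso.ext (pullEnd_one ρ hinv)
  map_mul' a b := Iso.ext (pullEnd_mul ρ hinv a b)

end Act

/-- A quotient of a family of curves by an involution, whose target has fibres of another genus, is a double
cover. -/
theorem doubleCover_of_isQuot {X P S : Scheme.{u}} {f : X ⟶ S} {q : P ⟶ S} {g g' : ℕ} (hX : CurveFam g f)
    (hP : CurveFam g' q) (hgg : g ≠ g') (h2 : IsUnit (2 : Γ(S, ⊤))) {σ : Aut X} (hσ : σ * σ = 1)
    {π : X ⟶ P} (hπq : π ≫ q = f) (hQ : SGA1.IsQuot (Subgroup.zpowers σ).subtype π) :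
    IsFinite π ∧ Flat π ∧ LocallyOfFinitePresentation π ∧ ∀ y : P, π.finrank y = 2 := by
  obtain ⟨hfp, hfs, hfc, hfd, hfg⟩ := hX
  obtain ⟨hqp, hqs, hqc, hqd, hqg⟩ := hP
  haveI := hfp; haveI := hfs; haveI := hfc; haveI := hqp; haveI := hqs; haveI := hqc
  haveI := hQ.affine
  haveI : IsProper π := by
    haveI : IsProper (π ≫ q) := by rw [hπq]; exact hfp
    exact IsProper.of_comp π q
  haveI : IsFinite π := IsFinite.iff_isProper_and_isAffineHom.2 ⟨inferInstance, inferInstance⟩
  haveI : LocallyOfFinitePresentation π := by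
    haveI : LocallyOfFinitePresentation (π ≫ q) := by rw [hπq]; infer_instance
    exact Groth.L20.locallyOfFinitePresentation_of_comp π q
  haveI : Finite (Subgroup.zpowers σ) :=
    ((isOfFinOrder_iff_pow_eq_one).2 ⟨2, by norm_num, by rw [pow_two, hσ]⟩).finite_zpowers.to_subtype
  have h2P : IsUnit (2 : Γ(P, ⊤)) := by
    have := h2.map q.appTop.hom
    rwa [map_ofNat] at this
  have hcard : IsUnit ((Nat.card (Subgroup.zpowers σ) : ℕ) : Γ(P, ⊤)) := by
    rw [Nat.card_zpowers]
    rcases (Nat.dvd_prime Nat.prime_two).1 (orderOf_dvd_of_pow_eq_one (show σ ^ 2 = 1 by rw [pow_two, hσ]))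
      with h | h <;> rw [h]
    · simp
    · exact_mod_cast h2P
  have hsurj : Function.Surjective π := Groth.L27.Quot.surjective hQ
  haveI : Surjective π := ⟨hsurj⟩
  have hfib : ∀ s : S, Flat (pullback.snd π (q.fiberι s)) ∧
      ∀ y, (pullback.snd π (q.fiberι s)).finrank y = 2 := by
    intro s
    let κ := S.residueField s
    let qs : q.fiber s ⟶ Spec (CommRingCat.of κ) := q.fiberToSpecResidueField s
    let πs := pullback.snd π (q.fiberι s)
    letI : (q.fiber s).Over (Spec (CommRingCat.of κ)) := ⟨qs⟩
    letI : (pullback π (q.fiberι s)).Over (Spec (CommRingCat.of κ)) := ⟨πs ≫ qs⟩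
    letI : (f.fiber s).Over (Spec (CommRingCat.of κ)) := ⟨f.fiberToSpecResidueField s⟩
    have sq : IsPullback (pullback.fst π (q.fiberι s)) (πs ≫ qs) f (S.fromSpecResidueField s) := by
      rw [← hπq]
      exact (IsPullback.of_hasPullback π (q.fiberι s)).paste_vert
        (IsPullback.of_hasPullback q (S.fromSpecResidueField s))
    haveI : IsProper (q.fiber s ↘ Spec (CommRingCat.of κ)) := inferInstanceAs (IsProper (pullback.snd q _))
    haveI : IsProper (f.fiber s ↘ Spec (CommRingCat.of κ)) := inferInstanceAs (IsProper (pullback.snd f _))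
    haveI : Smooth qs := inferInstanceAs (Smooth (pullback.snd q _))
    haveI : IsProper (pullback π (q.fiberι s) ↘ Spec (CommRingCat.of κ)) :=
      MorphismProperty.of_isPullback (P := @IsProper) sq inferInstance
    haveI := Groth.L12.CurveFam.isIntegral_fiber q s
    haveI := Groth.L12.CurveFam.isIntegral_fiber f s
    let e : pullback π (q.fiberι s) ≅ f.fiber s := sq.isoPullback
    haveI : IsIntegral (pullback π (q.fiberι s)) := by
      haveI : Nonempty ↥(pullback π (q.fiberι s)) := ⟨e.inv (Classical.arbitrary _)⟩
      exact isIntegral_of_isOpenImmersion e.hom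
    haveI : IsNoetherian (q.fiber s) := Groth.L21.RR.isNoetherian_of_proper (X := q.fiber s) κ
    have hsurj' : Function.Surjective πs := by
      haveI : Surjective πs := MorphismProperty.pullback_snd _ _ inferInstance
      exact πs.surjective
    haveI : IsFinite πs := MorphismProperty.pullback_snd _ _ inferInstance
    haveI : Flat πs := by
      refine Groth.L21.flat_of_nonconstant (hqd s).le (fun y => ⟨Groth.L21.Smooth.isDomain_stalk qs y,
        Groth.L21.Smooth.isIntegrallyClosed_stalk qs y⟩) πs ?_
      rw [hsurj'.range_eq, Set.nontrivial_univ_iff]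
      by_contra hnt
      rw [not_nontrivial_iff_subsingleton] at hnt
      haveI := hnt
      haveI : DiscreteTopology ↥(q.fiber s) := inferInstance
      have h0 := topologicalKrullDim_zero_of_discreteTopology ↥(q.fiber s)
      rw [hqd s] at h0
      exact absurd h0 (by decide)
    let ρ' : Subgroup.zpowers σ →* Aut (pullback π (q.fiberι s)) :=
      pullAut (ι := q.fiberι s) (Subgroup.zpowers σ).subtype hQ.inv
    have hQ' : SGA1.IsQuot ρ' πs :=
      Groth.L02.SymZeta.isQuot_baseChange hQ hcard (IsPullback.of_hasPullback π (q.fiberι s)) ρ'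
        (fun g => pullback.lift_fst _ _ _) (fun g => pullback.lift_snd _ _ _)
    let t : Subgroup.zpowers σ := ⟨σ, Subgroup.mem_zpowers σ⟩
    have ht : t * t = 1 := Subtype.ext hσ
    have h2s : IsUnit (2 : Γ(q.fiber s, ⊤)) := by
      have := h2P.map (q.fiberι s).appTop.hom
      rwa [map_ofNat] at this
    have hI : Groth.L12.SymSq.InvQuot πs (ρ' t).hom :=
      { affine := hQ'.affine
        comp := hQ'.inv t
        invol := by
          show (ρ' t * ρ' t).hom = 𝟙 _
          rw [← map_mul, ht, map_one]; rfl
        injective := hQ'.injective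
        range := fun U x hx => by
          refine (hQ'.range_iff U x).2 fun g => ?_
          rcases Groth.L12.HypInvol.zpowers_two hσ g with e | e
          · obtain rfl : g = 1 := Subtype.ext e
            exact congr($(Groth.L27.Quot.act_one hQ'.inv U) x)
          · obtain rfl : g = t := Subtype.ext e
            exact hx
        two := h2s }
    refine ⟨inferInstance, fun y => finrank_eq_two (k := κ) πs rfl hI hsurj' ?_ y⟩
    rw [Groth.L21.RR.genus_bc (k := κ) (K := κ) e.hom
      (Groth.L21.RR.isPullback_of_iso e sq.isoPullback_hom_snd)]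
    exact fun hh => hgg ((hfg s).symm.trans (hh.trans (hqg s)))
  haveI : Flat π := Groth.L05.Point.flat_of_fibres_flat q f π hπq fun s => (hfib s).1
  refine ⟨inferInstance, inferInstance, inferInstance, fun y => ?_⟩
  rw [← (hfib (q y)).2 (q.asFiber y), Scheme.Hom.finrank_pullback_snd, Scheme.Hom.fiberι_asFiber]

end Groth.L21.Conic
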