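import Groth.Agent.L21.Conic.Point
import Groth.Agent.L07.DimJacobson
import Groth.Agent.L22.ExtSh.Codim
import Groth.Agent.L22.SchemeDim
import Groth.Agent.S0212
import Groth.Agent.S4440
import Groth.Agent.L08.Cube.SmoothStalk
import Groth.Agent.L21.Curve.SmoothDescent

/-!
Fibrations of surfaces over curves whose generic fibre has genus zero.
-/

set_option autoImplicit false
set_option backward.isDefEq.respectTransparency false
set_option linter.style.haveILetI false
universe u

open CategoryTheory CategoryTheory.Limits AlgebraicGeometry TopologicalSpace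

noncomputable section

namespace Groth.L21.Conic

variable {k : Type u} [Field k] {X B : Scheme.{u}} [IsIntegral X] [IsIntegral B]
  (sX : X ⟶ Spec (CommRingCat.of k)) (sB : B ⟶ Spec (CommRingCat.of k)) [LocallyOfFiniteType sX]
  [LocallyOfFiniteType sB] (π : X ⟶ B)

theorem fibre_dim_generic (hπ : π ≫ sB = sX) [IsDominant π] (hX : topologicalKrullDim X = 2)
    (hB : topologicalKrullDim B = 1) : topologicalKrullDim ↥(π.fiber (genericPoint B)) = 1 := by
  haveI : Subsingleton (Spec (CommRingCat.of k)) := inferInstanceAs (Subsingleton (PrimeSpectrum k))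
  have h := Groth.L07.DimJacobson.dim_eq_dim_add
    (fun s => Groth.L22.ExtSh.isUniversallyCatenary_stalk_field s)
    (fun S' _ s hs _ => congrArg (fun T : Set (Spec (CommRingCat.of k)) => topologicalKrullDim ↥T)
      (show S' = {t | t ∈ S' ∧ t ⤳ s} from Set.ext fun t =>
        ⟨fun ht => ⟨ht, specializes_of_eq (Subsingleton.elim _ _)⟩, fun ht => ht.1⟩))
    sX sB π hπ
  rw [hX, hB] at h
  generalize topologicalKrullDim ↥(π.fiber (genericPoint B)) = e at h
  induction e with
  | bot => exact absurd h (by simp)
  | coe e =>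
    induction e with
    | top => exact absurd (WithBot.coe_inj.1 h) (by simp)
    | coe n =>
      have h1 : ((2 : ℕ) : WithBot ℕ∞) = ((1 + n : ℕ) : WithBot ℕ∞) := by push_cast; exact h
      have h' : 2 = 1 + n := by exact_mod_cast h1
      obtain rfl : n = 1 := by omega
      rfl

/-- A point of the generic fibre extends to a section over a smooth curve. -/
theorem exists_section_of_generic [IsProper π] [Smooth sB] (hB : topologicalKrullDim B ≤ 1)
    (s : Spec (B.residueField (genericPoint B)) ⟶ π.fiber (genericPoint B))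
    (hs : s ≫ π.fiberToSpecResidueField (genericPoint B) = 𝟙 _) :
    ∃ σ : B ⟶ X, σ ≫ π = 𝟙 B := by
  haveI : IsLocallyNoetherian B := LocallyOfFiniteType.isLocallyNoetherian sB
  letI : Field (B.presheaf.stalk (genericPoint B)) := inferInstanceAs (Field B.functionField)
  haveI : IsIso (B.residue (genericPoint B)) := by
    rw [ConcreteCategory.isIso_iff_bijective]
    exact ⟨RingHom.injective _, B.residue_surjective _⟩
  let φ : Spec (B.presheaf.stalk (genericPoint B)) ⟶ X :=
    inv (Spec.map (B.residue (genericPoint B))) ≫ s ≫ π.fiberι (genericPoint B)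
  have hφ : φ ≫ π = B.fromSpecStalk (genericPoint B) ≫ 𝟙 B := by
    rw [Category.comp_id, Category.assoc, Category.assoc, π.fiber_fac, reassoc_of% hs, IsIso.inv_comp_eq]
    rfl
  obtain ⟨V, hηV, g, -, hg⟩ := spread_out_of_isGermInjective' (𝟙 B) π φ hφ
  obtain ⟨U, -, g', hg', -, hall⟩ := Groth.Agent.S4440.result π (𝟙 B)
    (fun y _ => Groth.L08.Cube.isRegularLocalRing_of_smooth sB y) V
    (V.2.dense ⟨_, hηV⟩) g hg
  have htop : U = ⊤ := top_unique fun y _ => hall y ((Groth.L21.SmoothDescent.ringKrullDim_stalk_le y).trans hB)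
  subst htop
  refine ⟨B.topIso.inv ≫ g', ?_⟩
  rw [Category.assoc, hg', Category.comp_id, ← Scheme.topIso_hom, Iso.inv_hom_id]

end Groth.L21.Conic
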