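import Groth.Agent.L21.Disc.DoubleCover
import Groth.Agent.L12.CurveFam.Omega
import Groth.Agent.L21.CurveFlat
import Groth.Agent.L21.RR.BaseChange
import Groth.Agent.L21.Smooth.Scheme
import Groth.Agent.L02.SymZeta.QuotBC
import Groth.Agent.L27.Quot.Finite

/-!
# Quotients of families of curves by involutions
-/

set_option autoImplicit false
set_option linter.style.haveILetI false
set_option linter.unusedSectionVars false
set_option backward.isDefEq.respectTransparency false
set_option backward.isDefEq.respectTransparency.types false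

universe u

open CategoryTheory CategoryTheory.Limits AlgebraicGeometry

noncomputable section

namespace Groth.L21.Conic

open Groth.L12.SymSq (InvQuot)
open Groth.L21.Disc (pushO secAlg toBasis)

/-- An extension with an involution whose fixed ring is the base has rank at most two. -/
theorem card_le_two {A B : Type u} [CommRing A] [IsDomain A] [CommRing B] [IsDomain B] [Algebra A B]
    (hinj : Function.Injective (algebraMap A B)) (τ : B →ₐ[A] B) (hinv : ∀ b, τ (τ b) = b)
    (hfix : ∀ b, τ b = b → b ∈ (algebraMap A B).range) (h2 : (2 : A) ≠ 0) {ι : Type} [Fintype ι]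
    (v : ι → B) (hv : LinearIndependent A v) : Fintype.card ι ≤ 2 := by
  classical
  have hanti : ∀ b, τ (b - τ b) = -(b - τ b) := fun b => by rw [map_sub, hinv]; ring
  have hsym : ∀ b, ∃ a, algebraMap A B a = b + τ b := fun b => hfix _ (by rw [map_add, hinv, add_comm])
  obtain ⟨μ, u, hμ, h⟩ : ∃ (μ : A) (u : B), μ ≠ 0 ∧ ∀ i, ∃ c d : A, (2 * μ) • v i = c • (1 : B) + d • u := by
    by_cases hex : ∃ i, v i - τ (v i) ≠ 0
    · obtain ⟨i₀, hi₀⟩ := hex
      set u := v i₀ - τ (v i₀) with hu
      obtain ⟨μ, hμ⟩ := hfix (u * u) (by rw [map_mul, hanti, neg_mul_neg])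
      refine ⟨μ, u, fun h0 => hi₀ ?_, fun i => ?_⟩
      · rw [h0, map_zero] at hμ
        exact mul_self_eq_zero.1 hμ.symm
      · obtain ⟨a, ha⟩ := hsym (v i)
        obtain ⟨l, hl⟩ := hfix ((v i - τ (v i)) * u) (by rw [map_mul, hanti, hanti, neg_mul_neg])
        refine ⟨μ * a, l, ?_⟩
        simp only [Algebra.smul_def, map_mul, map_ofNat, mul_one]
        rw [ha, hμ, hl]
        ring
    · push Not at hex
      refine ⟨1, 1, one_ne_zero, fun i => ?_⟩
      obtain ⟨a, ha⟩ := hsym (v i)
      refine ⟨a, 0, ?_⟩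
      simp only [Algebra.smul_def, map_mul, map_ofNat, map_one, map_zero, zero_mul, add_zero, mul_one]
      rw [ha]
      linear_combination hex i
  have hne : (2 * μ) ≠ 0 := mul_ne_zero h2 hμ
  have hli : LinearIndependent A fun i => (2 * μ) • v i := by
    rw [Fintype.linearIndependent_iff] at hv ⊢
    intro g hg i
    have h0 := hv (fun i => g i * (2 * μ)) (by simpa only [mul_smul] using hg) i
    exact (mul_eq_zero.1 h0).resolve_right hne
  have hsub : Set.range (fun i => (2 * μ) • v i) ≤ Submodule.span A (({1, u} : Finset B) : Set B) := by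
    rintro _ ⟨i, rfl⟩
    obtain ⟨c, d, hcd⟩ := h i
    simp only [Finset.coe_insert, Finset.coe_singleton, SetLike.mem_coe]
    rw [hcd]
    exact add_mem (Submodule.smul_mem _ _ (Submodule.subset_span (by simp)))
      (Submodule.smul_mem _ _ (Submodule.subset_span (by simp)))
  have hcard := linearIndependent_le_span' _ hli (({1, u} : Finset B) : Set B) hsub
  rw [Cardinal.mk_fintype] at hcard
  simp only [Finset.coe_sort_coe, Fintype.card_coe, Cardinal.mk_fintype] at hcard
  exact (Nat.cast_le.1 hcard).trans Finset.card_le_two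

/-- The rank of a quotient by an involution is at most two. -/
theorem rank_le_two {X Y : Scheme.{u}} [IsIntegral X] [IsIntegral Y] (π : X ⟶ Y) [IsFinite π]
    {τ : X ⟶ X} (h : InvQuot π τ) {n : ℕ} (hE : FlatMod.IsFinLocFreeOfRank n (pushO π))
    (hsurj : Function.Surjective π) : n ≤ 2 := by
  obtain ⟨U, e, hη, -, he⟩ := Groth.L22.CurveDeg.Det.exists_affine_basis hE (genericPoint Y) ⊤ trivial
  haveI : Nonempty U.1 := ⟨⟨_, hη⟩⟩
  obtain ⟨x, hx⟩ := hsurj (genericPoint Y)
  haveI : IsDomain Γ(Y, U.1) := IsIntegral.component_integral _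
  haveI : IsDomain Γ(X, π ⁻¹ᵁ U.1) :=
    @IsIntegral.component_integral X _ (π ⁻¹ᵁ U.1) ⟨⟨x, show π x ∈ U.1 by rw [hx]; exact hη⟩⟩
  letI := secAlg π U.1
  let τA : Γ(X, π ⁻¹ᵁ U.1) →ₐ[Γ(Y, U.1)] Γ(X, π ⁻¹ᵁ U.1) :=
    { h.act U.1 with commutes' := fun a => h.act_app U.1 a }
  have := card_le_two (h.injective U.1) τA (h.act_act U.1) (fun b hb => h.range U.1 b hb)
    (IsUnit.ne_zero (h.two_isUnit U.1)) _ (toBasis π he).linearIndependent
  simpa using this

/-- The rank of a quotient of curves by an involution. -/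
theorem finrank_eq_two {k : Type u} [Field k] {X Y : Scheme.{u}} [X.Over (Spec (CommRingCat.of k))]
    [Y.Over (Spec (CommRingCat.of k))] [IsIntegral X] [IsIntegral Y] [IsLocallyNoetherian Y]
    (π : X ⟶ Y) [IsFinite π] [Flat π] (hπ : π ≫ (Y ↘ Spec (CommRingCat.of k)) = X ↘ Spec (CommRingCat.of k))
    {τ : X ⟶ X} (h : InvQuot π τ) (hsurj : Function.Surjective π)
    [IsProper (X ↘ Spec (CommRingCat.of k))] [IsProper (Y ↘ Spec (CommRingCat.of k))]
    (hne : Curv2.genus k X ≠ Curv2.genus k Y) (y : Y) : π.finrank y = 2 := by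
  obtain ⟨n, hn⟩ := Groth.L21.Disc.exists_rank_push π
  have hrk : ∀ y, π.finrank y = n := Groth.L27.Deg.finrank_eq_of_push π hn
  haveI : LocallyOfFinitePresentation π := inferInstance
  haveI : Surjective π := ⟨hsurj⟩
  have h1 : 1 ≤ n := by
    have := (Scheme.Hom.one_le_finrank_iff_surjective π).2 inferInstance y
    rwa [hrk y] at this
  have h2 := rank_le_two π h hn hsurj
  rw [hrk]
  suffices n ≠ 1 by omega
  rintro rfl
  haveI : IsIso π := (Scheme.Hom.isIso_iff_finrank_eq π).2 (funext hrk)
  exact hne (Groth.L21.RR.genus_bc (k := k) (K := k) π (Groth.L21.RR.isPullback_of_iso (asIso π) hπ))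

end Groth.L21.Conic
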