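import Groth.Agent.L21.Conic.Quadratic
import Groth.Agent.L21.RR.SectionProduct
import Groth.Agent.L21.RR.GenusZero
import Groth.Agent.L21.RR.PointDrop
import Groth.Agent.L21.RR.GeomGenusZero
import Groth.Agent.L21.Duality.Nondegenerate
import Groth.Agent.L21.Duality.Deg
import Groth.Agent.L21.GenusOne.Field
import Groth.Agent.L21.Disc.Hurwitz
import Groth.Agent.L08.Cube.Inverse

/-!
A curve of genus zero over a `C₁` field has a rational point.
-/

set_option autoImplicit false
set_option backward.isDefEq.respectTransparency false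
set_option linter.style.haveILetI false
universe u

open CategoryTheory CategoryTheory.Limits AlgebraicGeometry TopologicalSpace Opposite IsLocalRing

noncomputable section

namespace Groth.L21.Conic

open Groth.L18.Frame (IsFrame rs rs_self)
open Groth.L18.GenLoc (tens secOf isFrame_tens)
open Groth.L21.RR (h e0 cstAt)

variable {X : Scheme.{u}} [IsIntegral X] {L : X.Modules}

/-- The value of a section in the local ring, in a frame. -/
theorem exists_val (hL : PicF.IsInvertible L) (x : X) :
    ∃ (v : Γ(L, ⊤) →+ X.presheaf.stalk x) (w : Γ(CohB1.tensorMod L L, ⊤) →+ X.presheaf.stalk x),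
      (∀ (c : Γ(X, ⊤)) s, v (c • s) = X.presheaf.germ ⊤ x trivial c * v s) ∧
      (∀ (c : Γ(X, ⊤)) s, w (c • s) = X.presheaf.germ ⊤ x trivial c * w s) ∧
      (∀ φ : Coh.structureModule X ⟶ L, Function.Surjective (Groth.L21.RR.st φ x) ↔ IsUnit (v (secOf φ))) ∧
      (∀ s, v s = 0 → s = 0) ∧ ∀ s t, w (tens L L ⊤ s t) = v s * v t := by
  obtain ⟨W, e, hx, he⟩ := Groth.L18.Frame.exists_frame hL x
  let θ := LinearEquiv.ofBijective (LinearMap.toSpanSingleton (X.presheaf.stalk x) (L.presheaf.stalk x)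
    (L.presheaf.germ W x hx e)) (Groth.L21.RR.bijective_germ_frame he hx)
  let θ' := LinearEquiv.ofBijective (LinearMap.toSpanSingleton (X.presheaf.stalk x)
    ((CohB1.tensorMod L L).presheaf.stalk x) ((CohB1.tensorMod L L).presheaf.germ W x hx (tens L L W e e)))
    (Groth.L21.RR.bijective_germ_frame (isFrame_tens he he) hx)
  let v : Γ(L, ⊤) →+ X.presheaf.stalk x := θ.symm.toAddMonoidHom.comp (L.presheaf.germ ⊤ x trivial).hom
  let w : Γ(CohB1.tensorMod L L, ⊤) →+ X.presheaf.stalk x :=
    θ'.symm.toAddMonoidHom.comp ((CohB1.tensorMod L L).presheaf.germ ⊤ x trivial).hom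
  have hv : ∀ s, v s • L.presheaf.germ W x hx e = L.presheaf.germ ⊤ x trivial s := fun s => θ.apply_symm_apply _
  refine ⟨v, w, fun c s => ?_, fun c s => ?_, fun φ => ?_, fun s hs => ?_, fun s t => ?_⟩
  · show θ.symm (L.presheaf.germ ⊤ x trivial (c • s)) = _
    rw [Groth.L20.ModStalk.germ_smul, map_smul]
    rfl
  · show θ'.symm ((CohB1.tensorMod L L).presheaf.germ ⊤ x trivial (c • s)) = _
    rw [Groth.L20.ModStalk.germ_smul, map_smul]
    rfl
  · exact Groth.L21.RR.surjective_st_iff (Groth.L21.RR.bijective_germ_frame he hx) φ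
      ((hv _).trans (Groth.L21.RR.st_one_top φ x).symm)
  · obtain ⟨φ, rfl⟩ := Groth.L21.RR.exists_hom_secOf (X := X) s
    by_contra hne
    refine Groth.L21.RR.st_one_ne_zero hL (φ := φ) (fun h => hne (by rw [h]; rfl)) x ?_
    refine (Groth.L21.RR.st_one_top φ x).trans ((hv _).symm.trans ?_)
    rw [show φ.app ⊤ (Groth.L21.RR.oneSec X) = secOf φ from rfl, hs]
    exact zero_smul _ _
  · obtain ⟨a, ha⟩ := he.exists_coeff le_rfl (rs L le_top s)
    obtain ⟨b, hb⟩ := he.exists_coeff le_rfl (rs L le_top t)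
    rw [rs_self] at ha hb
    have hva : ∀ (r : Γ(L, ⊤)) (c : Γ(X, W)), c • e = rs L le_top r → v r = X.presheaf.germ W x hx c := fun r c hc => by
      show θ.symm (L.presheaf.germ ⊤ x trivial r) = _
      rw [θ.symm_apply_eq, ← Groth.L20.ModStalk.germ_rs L le_top hx, ← hc, Groth.L20.ModStalk.germ_smul]
      rfl
    rw [hva s a ha, hva t b hb]
    show θ'.symm ((CohB1.tensorMod L L).presheaf.germ ⊤ x trivial (tens L L ⊤ s t)) = _
    rw [θ'.symm_apply_eq, ← Groth.L20.ModStalk.germ_rs (CohB1.tensorMod L L) le_top hx]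
    show (CohB1.tensorMod L L).presheaf.germ W x hx (rs _ le_top (tens L L ⊤ s t)) = _
    rw [Groth.L18.GenLoc.tens_rs, ← ha, ← hb, Groth.L18.GenLoc.tens_smul_left, Groth.L18.GenLoc.tens_smul_right,
      smul_smul, Groth.L20.ModStalk.germ_smul, map_mul]
    rfl

variable (K : Type u) [Field K] [X.Over (Spec (CommRingCat.of K))] [IsProper (X ↘ Spec (CommRingCat.of K))]

attribute [local instance] Curv2.resAlgebra

/-- Two independent sections of a degree two module vanishing together give a rational point. -/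
theorem exists_point_of_common_zero [Smooth (X ↘ Spec (CommRingCat.of K))] (hd : topologicalKrullDim X = 1)
    (h0 : h K 0 (Coh.structureModule X) = 1) (hL : PicF.IsInvertible L) (hdeg : Curv2.deg K X L 1 = 2)
    {U V : Coh.HH X L 0} (hUV : ∀ a b : K, a • U + b • V = 0 → a = 0 ∧ b = 0) {z : X}
    (hUz : ∀ φ : Coh.structureModule X ⟶ L, secOf φ = e0 L U → ¬ Function.Surjective (Groth.L21.RR.st φ z))
    (hVz : ∀ φ : Coh.structureModule X ⟶ L, secOf φ = e0 L V → ¬ Function.Surjective (Groth.L21.RR.st φ z)) :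
    ∃ s : Spec (CommRingCat.of K) ⟶ X, s ≫ (X ↘ Spec (CommRingCat.of K)) = 𝟙 _ := by
  haveI := Groth.L21.RR.isNoetherian_of_proper (X := X) K
  obtain ⟨φ, hφ⟩ := Groth.L21.RR.exists_hom_secOf (X := X) (e0 L U)
  obtain ⟨ψ, hψ⟩ := Groth.L21.RR.exists_hom_secOf (X := X) (e0 L V)
  have hφ0 : φ ≠ 0 := fun h' => one_ne_zero (hUV 1 0 (by
    rw [one_smul, zero_smul, add_zero]
    refine (e0 L).injective ?_
    rw [map_zero, ← hφ, h']; rfl)).1
  have hz : IsClosed ({z} : Set X) := by
    by_contra hn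
    exact hUz φ hφ (Groth.L21.RR.surjective_st_of_not_closed hd.le hL hφ0 hn)
  obtain ⟨M, ι, hι, hM, heM, -⟩ := Groth.L21.RR.exists_minus_point K hd hL hz
  haveI := hι.mono
  haveI := Groth.L21.RR.finite_HH' K (Groth.L16.ProperFinite.isCoh_of_isInvertible hM) 0
  have hmem : ∀ (u : Coh.HH X L 0) (φ : Coh.structureModule X ⟶ L), secOf φ = e0 L u →
      ¬ Function.Surjective (Groth.L21.RR.st φ z) → u ∈ (Groth.L21.RR.hk K ι 0).range := by
    intro u φ hu hn
    obtain ⟨φ', hφ'⟩ := hι.exists_lift_section hL φ hn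
    refine ⟨(e0 M).symm (secOf φ'), (e0 L).injective ?_⟩
    show e0 L (Groth.L16.CohLinear.hmap ι 0 _) = _
    rw [Groth.L21.RR.e0_hmap, AddEquiv.apply_symm_apply, ← hu, ← hφ']
    rfl
  have h2 : 2 ≤ h K 0 M := by
    have hli : LinearIndependent K ![U, V] := LinearIndependent.pair_iff.2 hUV
    have hle : Submodule.span K (Set.range ![U, V]) ≤ (Groth.L21.RR.hk K ι 0).range := by
      rw [Submodule.span_le, Set.range_subset_iff]
      intro j
      fin_cases j
      · exact hmem U φ hφ (hUz φ hφ)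
      · exact hmem V ψ hψ (hVz ψ hψ)
    have e := finrank_span_eq_card hli
    haveI := Groth.L21.RR.finite_HH' K (Groth.L16.ProperFinite.isCoh_of_isInvertible hL) 0
    have h3 := (Submodule.finrank_mono hle).trans (Groth.L21.RR.hk K ι 0).finrank_range_le
    rw [e, Fintype.card_fin] at h3
    exact h3
  have h3 := Groth.L21.Duality.h0_le_deg_add (k := K) hd.le h0 hM (by omega)
  haveI := Groth.L21.Disc.finite_residueField_of_isClosed K (X := X) hz
  have hpos : 0 < Module.finrank K (X.residueField z) := Module.finrank_pos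
  have hd1 : Module.finrank K (X.residueField z) = 1 := by
    have e : Curv2.deg K X M 1 = Curv2.deg K X L 1 - Module.finrank K (X.residueField z) := by
      rw [Curv2.deg, Curv2.deg, heM]; ring
    omega
  have hb : Function.Bijective (Curv2.resMap K X z) :=
    ⟨(Curv2.resMap K X z).injective, fun y => by
      obtain ⟨a, ha⟩ := exists_smul_eq_of_finrank_eq_one hd1 (one_ne_zero (α := X.residueField z)) y
      exact ⟨a, by rw [← ha, Algebra.smul_def, mul_one]; rfl⟩⟩
  obtain ⟨s, hs, -⟩ := Groth.L21.G1.exists_section_of_rat hb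
  exact ⟨s, hs⟩

/-- A geometrically integral curve of genus zero over a `C₁` field has a rational point. -/
theorem exists_ratPoint [GeometricallyIntegral (X ↘ Spec (CommRingCat.of K))] (hK : Curves.IsCi K 1)
    (hd : topologicalKrullDim X = 1) (hg : Curv2.genus K X = 0) :
    ∃ s : Spec (CommRingCat.of K) ⟶ X, s ≫ (X ↘ Spec (CommRingCat.of K)) = 𝟙 _ := by
  haveI := Groth.L21.RR.smooth_of_genus_zero K hd hg
  haveI := Groth.L21.RR.isNoetherian_of_proper (X := X) K
  have h0 : h K 0 (Coh.structureModule X) = 1 := Groth.L21.RR.h0_eq_one_of_geometricallyIntegral (X := X) K hd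
  have hg' : h K 1 (Coh.structureModule X) = 0 := hg
  have hΩ := Groth.L21.Duality.isInvertible_omega (k := K) (X := X) hd
  have hdegΩ := (Groth.L21.Duality.omega_invariants (k := K) (X := X) hd).2.2 h0
  obtain ⟨L, hL, ⟨eL⟩⟩ := Groth.L08.Cube.exists_inverse hΩ
  have hdegO : Curv2.deg K X (Coh.structureModule X) 1 = 0 := by rw [Curv2.deg]; simp
  have hdeg : Curv2.deg K X L 1 = 2 := by
    have e := Groth.L21.Duality.deg_tensor (k := K) hd hΩ hL
    rw [Groth.L21.RR.deg_congr K eL 1, hdegO, hdegΩ, hg] at e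
    push_cast at e
    omega
  let L2 := CohB1.tensorMod L L
  have hL2 : PicF.IsInvertible L2 := Groth.L18.GenLoc.isInvertible_tensor hL hL
  have hdeg2 : Curv2.deg K X L2 1 = 4 := by
    rw [Groth.L21.Duality.deg_tensor (k := K) hd hL hL, hdeg]; norm_num
  have hh : ∀ M : X.Modules, PicF.IsInvertible M → 0 < Curv2.deg K X M 1 →
      (h K 0 M : ℤ) = Curv2.deg K X M 1 + 1 := fun M hM hpos => by
    haveI := Groth.L21.RR.subsingleton_h1_of_deg_gt K hd.le h0 hM (by rw [hg']; omega)
    have hh1 : h K 1 M = 0 := Module.finrank_zero_of_subsingleton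
    rw [Curv2.deg, Groth.L21.RR.euler_eq K hd.le, Groth.L21.RR.euler_eq K hd.le, h0, hg', hh1]
    push_cast
    ring
  have hn : h K 0 L = 3 := by have := hh L hL (by omega); omega
  have hn2 : h K 0 L2 = 5 := by have := hh L2 hL2 (by omega); omega
  haveI := Groth.L21.RR.finite_HH' K (Groth.L16.ProperFinite.isCoh_of_isInvertible hL) 0
  haveI := Groth.L21.RR.finite_HH' K (Groth.L16.ProperFinite.isCoh_of_isInvertible hL2) 0
  let b := Module.finBasisOfFinrankEq K (Coh.HH X L 0) hn
  let m : Fin 6 → Coh.HH X L2 0 := fun p =>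
    (e0 L2).symm (tens L L ⊤ (e0 L (b (idx p).1)) (e0 L (b (idx p).2)))
  obtain ⟨c, hc, hrel⟩ : ∃ c : Fin 6 → K, c ≠ 0 ∧ ∑ p, c p • m p = 0 := by
    by_contra hne
    push Not at hne
    have hli : LinearIndependent K m := Fintype.linearIndependent_iff.2 fun g hg p => by
      by_contra hp
      exact hne g (Function.ne_iff.2 ⟨p, hp⟩) hg
    have h6 := hli.fintype_card_le_finrank
    rw [Fintype.card_fin] at h6
    exact absurd (h6.trans_eq hn2) (by norm_num)
  choose v w hv hw hsurj hinj hmul using exists_val hL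
  letI : ∀ x : X, Algebra K (X.presheaf.stalk x) := fun x => (cstAt K x).toAlgebra
  let ev : ∀ x : X, Coh.HH X L 0 →ₗ[K] X.presheaf.stalk x := fun x =>
    { toFun := fun u => v x (e0 L u)
      map_add' := fun a b => by rw [map_add, map_add]
      map_smul' := fun a u => by rw [RingHom.id_apply, Groth.L21.RR.e0_smul, hv, Algebra.smul_def]; rfl }
  obtain ⟨U, V, z, hind, hU, hV⟩ := exists_pencil_common_zero ev
    (fun x => (injective_iff_map_eq_zero _).2 fun u hu => (e0 L).injective ((hinj x _ hu).trans (map_zero _).symm))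
    (fun u hu => by
      obtain ⟨φ, hφ⟩ := Groth.L21.RR.exists_hom_secOf (X := X) (e0 L u)
      have hφ0 : φ ≠ 0 := fun h' => hu ((e0 L).injective (by rw [map_zero, ← hφ, h']; rfl))
      obtain ⟨z, hz⟩ := not_forall.1 fun hall => Groth.L21.RR.genLocus_ne_top K hd.le hL (by omega) hφ0
        (top_unique fun x _ => hall x)
      refine ⟨z, fun hu' => hz ((Groth.L21.RR.mem_genLocus_iff hL φ z).2 ((hsurj z φ).2 ?_))⟩
      rw [hφ]; exact hu')
    hK b b.linearIndependent hc fun x => by
      have e := congrArg (fun u => w x (e0 L2 u)) hrel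
      simp only [map_sum, Groth.L21.RR.e0_smul, hw, map_zero] at e
      refine Eq.trans (Finset.sum_congr rfl fun p _ => ?_) e
      simp only [m, AddEquiv.apply_symm_apply]
      rw [hmul]
      rfl
  refine exists_point_of_common_zero K hd h0 hL hdeg hind (z := z) (fun φ hφ hs => ?_) fun φ hφ hs => ?_
  · have h1 := (hsurj z φ).1 hs
    rw [hφ] at h1
    exact (mem_maximalIdeal _).1 hU h1
  · have h1 := (hsurj z φ).1 hs
    rw [hφ] at h1
    exact (mem_maximalIdeal _).1 hV h1

end Groth.L21.Conic
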