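import Mathlib.Algebra.Module.LinearMap.Defs
import Mathlib.Algebra.Algebra.Basic
import Mathlib.RingTheory.LocalRing.MaximalIdeal.Basic
import Mathlib.RingTheory.MvPolynomial.Homogeneous
import Mathlib.LinearAlgebra.FiniteDimensional.Basic
import Mathlib.Tactic.LinearCombination
import Mathlib.Algebra.BigOperators.Fin
import Mathlib.Tactic.FinCases
import Groth.Prelude.Def_Curves

/-!
A quadratic relation between three values over a `C₁` field forces two of them to vanish together.
-/

set_option autoImplicit false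
universe u v

open IsLocalRing

namespace Groth.L21.Conic

/-- The six monomials of a ternary quadratic form. -/
def idx : Fin 6 → Fin 3 × Fin 3 := ![(0, 0), (1, 1), (2, 2), (0, 1), (0, 2), (1, 2)]

variable {K : Type u} [Field K]

/-- the ternary form with coefficients `c` -/
def qf {R : Type v} [CommRing R] [Algebra K R] (c : Fin 6 → K) (x : Fin 3 → R) : R :=
  ∑ p, algebraMap K R (c p) * (x (idx p).1 * x (idx p).2)

/-- its polarisation -/
def qb {R : Type v} [CommRing R] [Algebra K R] (c : Fin 6 → K) (x y : Fin 3 → R) : R :=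
  ∑ p, algebraMap K R (c p) * (x (idx p).1 * y (idx p).2 + y (idx p).1 * x (idx p).2)

theorem algebraMap_qf {R : Type v} [CommRing R] [Algebra K R] (c : Fin 6 → K) (x : Fin 3 → K) :
    algebraMap K R (qf c x) = qf c (fun i => algebraMap K R (x i)) := by
  simp [qf]

theorem algebraMap_qb {R : Type v} [CommRing R] [Algebra K R] (c : Fin 6 → K) (x y : Fin 3 → K) :
    algebraMap K R (qb c x y) = qb c (fun i => algebraMap K R (x i)) (fun i => algebraMap K R (y i)) := by
  simp [qb]

theorem qf_expand {R : Type v} [CommRing R] [Algebra K R] (c : Fin 6 → K) (x y z : Fin 3 → R) (u v w : R) :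
    qf c (fun i => u * x i + v * y i + w * z i) =
      u * u * qf c x + u * v * qb c x y + v * v * qf c y + w * u * qb c x z + w * v * qb c y z + w * w * qf c z := by
  simp only [qf, qb, Finset.mul_sum, ← Finset.sum_add_distrib]
  exact Finset.sum_congr rfl fun p _ => by ring

theorem eq_zero_of_forall {c : Fin 6 → K} (h : ∀ x : Fin 3 → K, qf c x = 0) : c = 0 := by
  have h0 := h ![1, 0, 0]
  have h1 := h ![0, 1, 0]
  have h2 := h ![0, 0, 1]
  have h3 := h ![1, 1, 0]
  have h4 := h ![1, 0, 1]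
  have h5 := h ![0, 1, 1]
  simp [qf, idx, Fin.sum_univ_six] at h0 h1 h2 h3 h4 h5
  funext p
  fin_cases p <;> simp_all

/-- A zero of a ternary quadratic form over a `C₁` field. -/
theorem exists_zero (hK : Curves.IsCi K 1) (c : Fin 6 → K) : ∃ a : Fin 3 → K, a ≠ 0 ∧ qf c a = 0 := by
  obtain ⟨a, ha, h⟩ := hK 1 3 (fun _ => ∑ p, MvPolynomial.C (c p) * (MvPolynomial.X (idx p).1 * MvPolynomial.X (idx p).2))
    (fun _ => 2) (fun _ => MvPolynomial.IsHomogeneous.sum _ _ _ fun p _ =>
      ((MvPolynomial.isHomogeneous_X K (idx p).1).mul (MvPolynomial.isHomogeneous_X K (idx p).2)).C_mul (c p))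
    (fun _ => by norm_num) (by simp)
  refine ⟨a, ha, ?_⟩
  have h' := h 0
  simpa [qf, map_sum] using h'

variable {H : Type u} [AddCommGroup H] [Module K H] {ι : Type v} {O : ι → Type u} [∀ i, CommRing (O i)]
  [∀ i, IsLocalRing (O i)] [∀ i, IsDomain (O i)] [∀ i, Algebra K (O i)]
  (ev : ∀ i, H →ₗ[K] O i) (hinj : ∀ i, Function.Injective (ev i))
  (hzero : ∀ h : H, h ≠ 0 → ∃ i, ev i h ∈ maximalIdeal (O i))

include hinj hzero in
/-- One coordinate occurs in a product. -/
theorem exists_common_zero_aux {U W T : H} (hind : ∀ x y z : K, x • U + y • W + z • T = 0 → x = 0 ∧ y = 0 ∧ z = 0)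
    {α β γ δ : K} (hnz : ¬ (α = 0 ∧ β = 0 ∧ γ = 0 ∧ δ = 0))
    (hrel : ∀ i, algebraMap K (O i) α * (ev i U * ev i U) + algebraMap K (O i) β * (ev i U * ev i W) +
      algebraMap K (O i) γ * (ev i W * ev i W) + algebraMap K (O i) δ * (ev i T * ev i W) = 0) :
    ∃ i, ev i U ∈ maximalIdeal (O i) ∧ ev i W ∈ maximalIdeal (O i) := by
  have hW : W ≠ 0 := fun h => one_ne_zero (hind 0 1 0 (by rw [h]; simp)).2.1
  obtain ⟨i, hi⟩ := hzero W hW
  refine ⟨i, ?_, hi⟩
  by_cases hα : α = 0
  · exfalso
    have h1 : ev i W * ev i (β • U + γ • W + δ • T) = 0 := by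
      have h := hrel i
      rw [hα, map_zero, zero_mul, zero_add] at h
      rw [map_add, map_add, map_smul, map_smul, map_smul, Algebra.smul_def, Algebra.smul_def, Algebra.smul_def]
      linear_combination h
    rcases mul_eq_zero.1 h1 with h2 | h2
    · exact hW (hinj i (h2.trans (map_zero _).symm))
    · exact hnz ⟨hα, hind β γ δ (hinj i (h2.trans (map_zero _).symm))⟩
  · have hu : IsUnit (algebraMap K (O i) α) := (isUnit_iff_ne_zero.2 hα).map _
    have hmem : algebraMap K (O i) α * (ev i U * ev i U) ∈ maximalIdeal (O i) := by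
      have h : algebraMap K (O i) α * (ev i U * ev i U) = ev i W * -(algebraMap K (O i) β * ev i U +
          algebraMap K (O i) γ * ev i W + algebraMap K (O i) δ * ev i T) := by linear_combination hrel i
      rw [h]
      exact Ideal.mul_mem_right _ _ hi
    rcases (maximalIdeal.isMaximal (O i)).isPrime.mem_or_mem hmem with h | h
    · exact absurd hu ((mem_maximalIdeal _).1 h)
    · exact ((maximalIdeal.isMaximal (O i)).isPrime.mem_or_mem h).elim id id

include hinj hzero in
theorem exists_common_zero_of_ne {U V T : H} (hind : ∀ x y z : K, x • U + y • V + z • T = 0 → x = 0 ∧ y = 0 ∧ z = 0)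
    {α β γ p q : K} (hq : q ≠ 0)
    (hrel : ∀ i, algebraMap K (O i) α * (ev i U * ev i U) + algebraMap K (O i) β * (ev i U * ev i V) +
      algebraMap K (O i) γ * (ev i V * ev i V) + ev i T * ev i (p • U + q • V) = 0) :
    ∃ i, ev i U ∈ maximalIdeal (O i) ∧ ev i V ∈ maximalIdeal (O i) := by
  let W := p • U + q • V
  have hV : q⁻¹ • W + (-(p / q)) • U = V := by
    rw [smul_add, smul_smul, smul_smul, inv_mul_cancel₀ hq, one_smul, show q⁻¹ * p = p / q by ring]
    module
  have hind' : ∀ x y z : K, x • U + y • W + z • T = 0 → x = 0 ∧ y = 0 ∧ z = 0 := fun x y z h => by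
    obtain ⟨h1, h2, h3⟩ := hind (x + y * p) (y * q) z (by rw [← h]; simp only [W]; module)
    have hy : y = 0 := (mul_eq_zero.1 h2).resolve_right hq
    exact ⟨by simpa [hy] using h1, hy, h3⟩
  have key : ∀ i, ev i V = algebraMap K (O i) q⁻¹ * ev i W + algebraMap K (O i) (-(p / q)) * ev i U := fun i => by
    conv_lhs => rw [← hV]
    rw [map_add, map_smul, map_smul, Algebra.smul_def, Algebra.smul_def]
  obtain ⟨i, hiU, hiW⟩ := exists_common_zero_aux ev hinj hzero hind'
    (α := α + β * (-(p / q)) + γ * (-(p / q) * -(p / q))) (β := β * q⁻¹ + 2 * γ * (q⁻¹ * -(p / q)))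
    (γ := γ * (q⁻¹ * q⁻¹)) (δ := 1) (fun h => one_ne_zero h.2.2.2) fun i => by
      have h := hrel i
      rw [key i] at h
      simp only [map_add, map_mul, map_one, map_ofNat]
      linear_combination h
  exact ⟨i, hiU, by rw [key i]; exact add_mem (Ideal.mul_mem_left _ _ hiW) (Ideal.mul_mem_left _ _ hiU)⟩

include hinj hzero in
/-- A relation with one variable linear gives a common zero of the other two. -/
theorem exists_common_zero {U V T : H} (hind : ∀ x y z : K, x • U + y • V + z • T = 0 → x = 0 ∧ y = 0 ∧ z = 0)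
    {α β γ p q : K} (hnz : ¬ (α = 0 ∧ β = 0 ∧ γ = 0 ∧ p = 0 ∧ q = 0))
    (hrel : ∀ i, algebraMap K (O i) α * (ev i U * ev i U) + algebraMap K (O i) β * (ev i U * ev i V) +
      algebraMap K (O i) γ * (ev i V * ev i V) + ev i T * ev i (p • U + q • V) = 0) :
    ∃ i, ev i U ∈ maximalIdeal (O i) ∧ ev i V ∈ maximalIdeal (O i) := by
  by_cases hq : q = 0
  · subst hq
    by_cases hp : p = 0
    · subst hp
      refine exists_common_zero_aux ev hinj hzero hind (α := α) (β := β) (γ := γ) (δ := 0)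
        (fun h => hnz ⟨h.1, h.2.1, h.2.2.1, rfl, rfl⟩) fun i => ?_
      have h := hrel i
      simp only [zero_smul, add_zero, map_zero, mul_zero] at h
      simpa using h
    · obtain ⟨i, h1, h2⟩ := exists_common_zero_of_ne ev hinj hzero (U := V) (V := U) (T := T)
        (fun x y z h => by
          obtain ⟨a, b, c⟩ := hind y x z (by rw [← h]; abel)
          exact ⟨b, a, c⟩)
        (α := γ) (β := β) (γ := α) (p := 0) (q := p) hp fun i => by
          have h := hrel i
          simp only [zero_smul, zero_add, add_zero] at h ⊢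
          linear_combination h
      exact ⟨i, h2, h1⟩
  · exact exists_common_zero_of_ne ev hinj hzero hind hq hrel

include hinj hzero in
/-- **A conic over a `C₁` field has a point.** Two independent elements of a three-dimensional space of
sections with a quadratic relation vanish together. -/
theorem exists_pencil_common_zero (hK : Curves.IsCi K 1) (b : Fin 3 → H) (hb : LinearIndependent K b)
    {c : Fin 6 → K} (hc : c ≠ 0) (hrel : ∀ i, qf c (fun j => ev i (b j)) = 0) :
    ∃ (U V : H) (i : ι), (∀ x y : K, x • U + y • V = 0 → x = 0 ∧ y = 0) ∧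
      ev i U ∈ maximalIdeal (O i) ∧ ev i V ∈ maximalIdeal (O i) := by
  obtain ⟨a₀, ha₀, hfa₀⟩ := exists_zero hK c
  obtain ⟨i₀, hi₀⟩ : ∃ j, a₀ j ≠ 0 := Function.ne_iff.1 ha₀
  let a : Fin 3 → K := fun j => (a₀ i₀)⁻¹ * a₀ j
  have hai : a i₀ = 1 := inv_mul_cancel₀ hi₀
  have hfa : qf c a = 0 := by
    have : qf c a = (a₀ i₀)⁻¹ * (a₀ i₀)⁻¹ * qf c a₀ := by
      simp only [qf, Finset.mul_sum]
      exact Finset.sum_congr rfl fun p _ => by ring
    rw [this, hfa₀, mul_zero]
  obtain ⟨j₁, j₂, h12, h1, h2, hall⟩ : ∃ j₁ j₂ : Fin 3, j₁ ≠ j₂ ∧ j₁ ≠ i₀ ∧ j₂ ≠ i₀ ∧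
      ∀ j, j = i₀ ∨ j = j₁ ∨ j = j₂ :=
    (show ∀ l : Fin 3, ∃ j₁ j₂ : Fin 3, j₁ ≠ j₂ ∧ j₁ ≠ l ∧ j₂ ≠ l ∧ ∀ j, j = l ∨ j = j₁ ∨ j = j₂ by decide) i₀
  let e₁ : Fin 3 → K := Pi.single j₁ 1
  let e₂ : Fin 3 → K := Pi.single j₂ 1
  let T := b i₀
  let U := b j₁ - a j₁ • T
  let V := b j₂ - a j₂ • T
  have hind : ∀ x y z : K, x • U + y • V + z • T = 0 → x = 0 ∧ y = 0 ∧ z = 0 := fun x y z h => by
    have hg : ∑ j, (x • e₁ + y • e₂ + (z - x * a j₁ - y * a j₂) • (Pi.single i₀ 1 : Fin 3 → K)) j • b j = 0 := by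
      have e : ∀ (j : Fin 3), ∑ l, (Pi.single j 1 : Fin 3 → K) l • b l = b j := fun j => by
        rw [Finset.sum_eq_single j (fun l _ hl => by simp [hl]) (by simp)]
        simp
      simp only [Pi.add_apply, Pi.smul_apply, smul_eq_mul, add_smul, mul_smul, Finset.sum_add_distrib,
        ← Finset.smul_sum, e₁, e₂, e]
      rw [← h]
      simp only [U, V, T]
      module
    have hz := Fintype.linearIndependent_iff.1 hb _ hg
    have hx := hz j₁
    have hy := hz j₂
    have hzz := hz i₀
    simp [e₁, e₂, h12, h12.symm, h1, h2] at hx hy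
    simp [e₁, e₂, h1.symm, h2.symm, hx, hy] at hzz
    exact ⟨hx, hy, hzz⟩
  have hspan : ∀ {R : Type u} [CommRing R] [Algebra K R] (x : Fin 3 → R),
      x = fun j => (x j₁ - algebraMap K R (a j₁) * x i₀) * algebraMap K R (e₁ j) +
        (x j₂ - algebraMap K R (a j₂) * x i₀) * algebraMap K R (e₂ j) + x i₀ * algebraMap K R (a j) := by
    intro R _ _ x
    funext j
    rcases hall j with rfl | rfl | rfl
    · simp [e₁, e₂, h1.symm, h2.symm, hai]
    · simp [e₁, e₂, h12]; ring
    · simp [e₁, e₂, h12.symm]; ring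
  obtain ⟨i, hU, hV⟩ := exists_common_zero ev hinj hzero (U := U) (V := V) (T := T) hind
    (α := qf c e₁) (β := qb c e₁ e₂) (γ := qf c e₂) (p := qb c e₁ a) (q := qb c e₂ a) (fun h => by
      refine hc (eq_zero_of_forall fun x => ?_)
      rw [hspan x]
      simp only [Algebra.algebraMap_self, RingHom.id_apply]
      rw [qf_expand, h.1, h.2.1, h.2.2.1, h.2.2.2.1, h.2.2.2.2, hfa]
      ring) fun i => by
      have h := hrel i
      rw [hspan (fun j => ev i (b j)), qf_expand, ← algebraMap_qf, ← algebraMap_qf, ← algebraMap_qf, ← algebraMap_qb,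
        ← algebraMap_qb, ← algebraMap_qb, hfa, map_zero, mul_zero, add_zero] at h
      simp only [U, V, T, map_sub, map_add, map_smul, Algebra.smul_def]
      linear_combination h
  exact ⟨U, V, i, fun x y h => ⟨(hind x y 0 (by rw [zero_smul, add_zero, h])).1,
    (hind x y 0 (by rw [zero_smul, add_zero, h])).2.1⟩, hU, hV⟩

end Groth.L21.Conic
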